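import Cfsg.Agent.H436.KreinM
import Cfsg.Agent.H892.EP.Rows

/-!
# S4929, the Monster, `p = 47, 59` (helper70)
-/

set_option autoImplicit false

namespace Cfsg.Agent.H70.EP

open Cfsg Cfsg.Agent.MonsterX.InstData Cfsg.Agent.H816.MEigL Cfsg.Agent.H816.MSch Cfsg.Agent.H816.MDeg Cfsg.Agent.H816.IMEig Cfsg.Agent.Characters.Core Cfsg.Agent.H436.KreinM Cfsg.Agent.H892.EP

universe u

/-- **The Monster**: `18538750076` is in the principal `p`-block, if `p` divides `196883` and `842609326` (`p = 47, 59`) -/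
theorem evAt_model_sq {p : ℕ} [hp : Fact p.Prime] (hp2 : p ≠ 2) (h1 : p ∣ 196883) (h2 : p ∣ 842609326)
    (hd : p ∣ 808017424794512875886459904961710757005754368000000000)
    (hd' : ¬ p ^ 2 ∣ 808017424794512875886459904961710757005754368000000000) : EvAt p ↥M.G := by
  have := finite_G
  have hcard : Nat.card ↥M.G = 808017424794512875886459904961710757005754368000000000 :=
    Cfsg.Agent.MonsterP.EquivOf.isM_model.2
  obtain ⟨χ₁, χ₄, χ₅, d1, d4, d5, -, -, -, hs⟩ := symSq
  intro M' hM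
  obtain ⟨-, h4⟩ := mem_of_sq hp2 (by rw [hcard]; exact hd) (by rw [hcard]; exact hd') hM χ₁ χ₄ χ₅
    (by rw [Blocks.Basic.charDegree_of_eq (n := 196883) (by rw [d1]; norm_num)]; exact h1)
    (by rw [Blocks.Basic.charDegree_of_eq (n := 842609326) (by rw [d4]; norm_num)]; exact h2) hs
  refine ⟨χ₅, h4, ?_⟩
  rw [Blocks.Basic.charDegree_of_eq (n := 18538750076) (by rw [d5]; norm_num)]
  norm_num

theorem evM_47 (K : Type) [Group K] [Finite K] [IsSimpleGroup K] (h : Spor.IsoM K) : EvAt 47 K := by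
  obtain ⟨e⟩ := Cfsg.Agent.H816.IMM.exists_equiv h
  have := finite_G
  have : Fact (Nat.Prime 47) := ⟨by norm_num⟩
  exact EvAt.tr e.symm (evAt_model_sq (by norm_num) (by norm_num) (by norm_num) (by norm_num) (by norm_num))

theorem evM_59 (K : Type) [Group K] [Finite K] [IsSimpleGroup K] (h : Spor.IsoM K) : EvAt 59 K := by
  obtain ⟨e⟩ := Cfsg.Agent.H816.IMM.exists_equiv h
  have := finite_G
  have : Fact (Nat.Prime 59) := ⟨by norm_num⟩
  exact EvAt.tr e.symm (evAt_model_sq (by norm_num) (by norm_num) (by norm_num) (by norm_num) (by norm_num))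

end Cfsg.Agent.H70.EP
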